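import Groth.Agent.W7Cech.NNGrauert
import Groth.Agent.W7Cech.GrauertMain
import Groth.Agent.FlatCx.Ranks
import Groth.Agent.DQPush.Trunc
import Groth.Agent.FibDepth.Global
import Groth.Prelude.Def_PerfAux

/-!
Semicontinuity and Euler characteristic of fibres of proper flat morphisms of finite presentation over any base.
-/

set_option autoImplicit false
set_option backward.isDefEq.respectTransparency false
set_option backward.isDefEq.respectTransparency.types false
set_option linter.style.haveILetI false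

universe u

open CategoryTheory CategoryTheory.Limits AlgebraicGeometry TopologicalSpace
open Groth.Agent.FlatCx Groth.Agent.W7Cech

namespace Groth.Agent.BettiNN

variable {X S : Scheme.{u}} (f : X ⟶ S) [IsProper f] [LocallyOfFinitePresentation f] {F : X.Modules}
  (hF : CohB1.IsFP F) (hfl : FlatMod.IsFlatOver f F)

/-- the alternating sum of ranks of a finite free complex above degree zero -/
lemma isLocallyConstant_alternating {A : Type u} [CommRing A] (L : CochainComplex (ModuleCat.{u} A) ℤ)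
    (hL : ∀ i, Module.Finite A (L.X i) ∧ Module.Free A (L.X i)) (b : ℤ) (hb : ∀ i, b < i → IsZero (L.X i))
    (hneg : ∀ x : PrimeSpectrum A, CohIII.dRank L (-1) x = 0) (B : ℕ) (hB : b + 1 < B) :
    IsLocallyConstant fun x : PrimeSpectrum A =>
      (Finset.range B).sum fun p => (-1 : ℤ) ^ p * (CohIII.dRank L (p : ℤ) x : ℤ) := by
  haveI := fun i => (hL i).1
  haveI := fun i => (hL i).2
  haveI := fun i => finitePresentationX L hL i
  let r : ℤ → PrimeSpectrum A → ℕ := fun i x => fibreRk (L.d i (i + 1)).hom x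
  let n : ℤ → PrimeSpectrum A → ℕ := fun i x => Module.rankAtStalk (L.X i) x
  have key : ∀ (i j : ℤ) x, i + 1 = j → CohIII.dRank L j x + r i x + r j x = n j x := fun i j x hij => by
    subst hij
    exact dRank_add (P := L) (i := i) (j := i + 1) (k := i + 1 + 1) (by simp) (by simp) x
  have hn : ∀ i, IsLocallyConstant (n i) := fun i => Module.isLocallyConstant_rankAtStalk
  have hr : ∀ i (z : PrimeSpectrum A), ∀ᶠ x in nhds z, r i z ≤ r i x := fun i z =>
    (isOpen_le_fibreRk (L.d i (i + 1)).hom (fibreRk (L.d i (i + 1)).hom z)).mem_nhds (x := z) (by simp)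
  have hr1 : IsLocallyConstant (r (-1)) := (IsLocallyConstant.iff_eventually_eq _).2 fun z => by
    filter_upwards [hr (-1) z, hr (-1 - 1) z, (hn (-1)).eventually_eq z] with x h1 h2 h3
    have e1 := key (-1 - 1) (-1) x (by omega)
    have e2 := key (-1 - 1) (-1) z (by omega)
    rw [hneg] at e1 e2
    omega
  have htop : ∀ x, r ((B : ℤ) - 1) x = 0 := fun x => by
    have h0 : (L.d ((B : ℤ) - 1) ((B : ℤ) - 1 + 1)).hom = 0 := by
      rw [((hb ((B : ℤ) - 1 + 1) (by omega)).eq_of_tgt (L.d ((B : ℤ) - 1) ((B : ℤ) - 1 + 1)) 0)]; rfl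
    change fibreRk (L.d ((B : ℤ) - 1) ((B : ℤ) - 1 + 1)).hom x = 0
    rw [h0]
    simp only [fibreRk]
    rw [LinearMap.baseChange_zero, LinearMap.range_zero, finrank_bot]
  have tele : ∀ (m : ℕ) x, ((Finset.range m).sum fun p => (-1 : ℤ) ^ p * (CohIII.dRank L (p : ℤ) x : ℤ)) =
      ((Finset.range m).sum fun p => (-1 : ℤ) ^ p * (n (p : ℤ) x : ℤ)) - (r (-1) x : ℤ) +
        (-1 : ℤ) ^ m * (r ((m : ℤ) - 1) x : ℤ) := by
    intro m x
    induction m with
    | zero => simp
    | succ m ih =>
      rw [Finset.sum_range_succ, Finset.sum_range_succ, ih]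
      have e : (CohIII.dRank L (m : ℤ) x : ℤ) = (n (m : ℤ) x : ℤ) - r ((m : ℤ) - 1) x - r (m : ℤ) x := by
        have := key ((m : ℤ) - 1) (m : ℤ) x (by omega)
        omega
      rw [e, show ((m + 1 : ℕ) : ℤ) - 1 = (m : ℤ) by omega, pow_succ]
      ring
  rw [show (fun x : PrimeSpectrum A => (Finset.range B).sum fun p => (-1 : ℤ) ^ p * (CohIII.dRank L (p : ℤ) x : ℤ)) =
    fun x => ((Finset.range B).sum fun p => (-1 : ℤ) ^ p * (n (p : ℤ) x : ℤ)) - (r (-1) x : ℤ) from funext fun x => by
      rw [tele B x, htop]; simp]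
  refine (IsLocallyConstant.iff_eventually_eq _).2 fun z => ?_
  filter_upwards [(Filter.eventually_all_finset (Finset.range B)).2 fun p _ => (hn (p : ℤ)).eventually_eq z,
    hr1.eventually_eq z] with x h1 h2
  rw [h2]
  congr 1
  exact Finset.sum_congr rfl fun p hp => by rw [h1 p hp]

include hF hfl in
/-- upper semicontinuity -/
theorem isOpen_betti_lt (i k : ℕ) : IsOpen {s : S | PerfAux.betti f F s i < k} := by
  haveI := DQPush.hasInj X
  refine isOpen_iff_forall_mem_open.2 fun s hs => ?_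
  obtain ⟨V, hV, hsV, -⟩ := exists_isAffineOpen_mem_and_subset (X := S) (x := s) (U := ⊤) trivial
  obtain ⟨m⟩ := nonempty_ModelNN f (FibDepth.isQCoh_of_isFP hF) hF hfl hV
  let W : Set (PrimeSpectrum Γ(S, V)) := {x | CohIII.dRank m.L (i : ℤ) x < k}
  have hW : IsOpen W := upperSemicontinuous_iff_isOpen_preimage.1
    (upperSemicontinuous_dRank m.L (finiteFlatX m.L m.hL) (finitePresentationX m.L m.hL) (i : ℤ)) k
  refine ⟨hV.fromSpec '' W, ?_, hV.fromSpec.isOpenEmbedding.isOpenMap W hW,
    ⟨hV.primeIdealOf ⟨s, hsV⟩, ?_, hV.fromSpec_primeIdealOf ⟨s, hsV⟩⟩⟩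
  · rintro _ ⟨x, hx, rfl⟩
    exact ((m.hrk i x).trans_lt hx :)
  · have h := m.hrk i (hV.primeIdealOf ⟨s, hsV⟩)
    rw [show hV.fromSpec (hV.primeIdealOf ⟨s, hsV⟩) = s from hV.fromSpec_primeIdealOf ⟨s, hsV⟩] at h
    exact (h.symm.trans_lt hs :)

include hF hfl in
/-- local constancy of the Euler characteristic -/
theorem isLocallyConstant_eulerChar : IsLocallyConstant fun s : S => PerfAux.eulerChar f F s := by
  haveI := DQPush.hasInj X
  refine isLocallyConstant_of_fromSpec _ fun V hV => ?_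
  obtain ⟨m⟩ := nonempty_ModelNN f (FibDepth.isQCoh_of_isFP hF) hF hfl hV
  let B : ℕ := (m.b + 2).toNat + 1
  have hneg : ∀ x, CohIII.dRank m.L (-1) x = 0 := fun x =>
    (isZero_T_iff_dRank m.L m.hL (-1) x).1 (m.hneg (-1) (by omega) _)
  have hsupp : ∀ x (p : ℕ), B ≤ p → CohIII.dRank m.L (p : ℤ) x = 0 := fun x p hp => by
    haveI := (m.hL (p : ℤ)).1
    haveI := (m.hL (p : ℤ)).2
    have h := dRank_add (P := m.L) (i := (p : ℤ) - 1) (j := (p : ℤ)) (k := (p : ℤ) + 1) (by simp) (by simp) x
    haveI : Subsingleton (m.L.X (p : ℤ)) := ModuleCat.subsingleton_of_isZero (m.hb _ (by omega))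
    rw [Module.rankAtStalk_eq_zero_of_subsingleton] at h
    simp only [Pi.zero_apply] at h
    omega
  have := isLocallyConstant_alternating m.L m.hL m.b m.hb hneg B (by omega)
  refine (congrArg IsLocallyConstant (funext fun x => ?_)).mpr this
  have e : ∀ p : ℕ, PerfAux.betti f F (hV.fromSpec x) p = CohIII.dRank m.L (p : ℤ) x := fun p => m.hrk p x
  simp only [PerfAux.eulerChar, e]
  exact finsum_eq_sum_of_support_subset _ fun p hp => by
    by_contra hc
    simp only [Finset.coe_range, Set.mem_Iio, not_lt] at hc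
    exact hp (by simp [hsupp x p hc])

end Groth.Agent.BettiNN
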